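import Groth.Agent.RelVA.GenPush
import Groth.Agent.Ega2Proj.SpansFinite
import Groth.Agent.PicAux.PicLaw
import Groth.Agent.DegMono.Torsion
import Groth.Agent.LocFree.Basic
import Groth.Agent.LocFree.Tensor
import Groth.Prelude.Def_PerfAux
import Groth.Prelude.Def_PicGrp
import Groth.Prelude.Def_LCI2

/-!
# The resolution property along affine morphisms and ample modules
-/

universe u

open CategoryTheory CategoryTheory.Limits AlgebraicGeometry Opposite TopologicalSpace

set_option backward.isDefEq.respectTransparency.types false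
set_option linter.style.haveILetI false

noncomputable section

namespace Groth.ResPropUp

open Groth.PicAux Groth.Ega2Proj

variable {X Y : Scheme.{u}}

/-- Sections over an affine open span the stalks of a quasi-coherent module. -/
theorem spanOn_affine (M : X.Modules) [M.IsQuasicoherent] {D : X.Opens} (hD : IsAffineOpen D)
    (x : X) (hx : x ∈ D) : spanOn M D x hx = ⊤ := by
  refine Submodule.eq_top_iff'.2 fun a => ?_
  let _ := Groth.QCohMod.stalkModule M x hx
  have := Groth.QCohMod.isLocalizedModule_germ M hD x hx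
  obtain ⟨⟨m, s⟩, hms⟩ := IsLocalizedModule.surj (hD.primeIdealOf ⟨x, hx⟩).asIdeal.primeCompl
    (Groth.QCohMod.germₗ M x hx) a
  have hu : IsUnit (X.presheaf.germ D x hx s.1) := by
    let _ := TopCat.Presheaf.algebra_section_stalk X.presheaf (U := D) ⟨x, hx⟩
    have := hD.isLocalization_stalk ⟨x, hx⟩
    exact IsLocalization.map_units (X.presheaf.stalk x) s
  obtain ⟨v, hv⟩ := hu
  have h1 : (v : X.presheaf.stalk x) • a = Groth.QCohMod.germ M x hx m := by
    rw [hv]; exact hms
  have h2 : a = ((v⁻¹ : (X.presheaf.stalk x)ˣ) : X.presheaf.stalk x) • Groth.QCohMod.germ M x hx m := by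
    rw [← h1, smul_smul, Units.inv_mul, one_smul]
  rw [h2]
  exact Submodule.smul_mem _ _ (germ_mem_spanOn M hx m)

/-- A quotient of an inverse image lifts to a quotient of a finite locally free module. -/
theorem exists_bundle_epi (f : X ⟶ Y) (hY : PerfAux.HasResolutionProperty Y) {F : Y.Modules}
    (hF : Coh.IsQCoh F) (hFt : CohB1.IsFT F) {M : X.Modules} (φ : (Scheme.Modules.pullback f).obj F ⟶ M)
    (hφ : Epi φ) : ∃ (E : X.Modules) (π : E ⟶ M), FlatMod.IsFinLocFree E ∧ Epi π := by
  obtain ⟨E, π, hE, hπ⟩ := hY F hF hFt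
  have : (Scheme.Modules.pullback f).PreservesEpimorphisms :=
    Functor.preservesEpimorphisms_of_adjunction (Scheme.Modules.pullbackPushforwardAdjunction f)
  exact ⟨_, (Scheme.Modules.pullback f).map π ≫ φ, Groth.LocFree.isFinLocFree_pullback f hE, epi_comp _ _⟩

/-- The resolution property passes up along affine morphisms. -/
theorem of_isAffineHom (f : X ⟶ Y) [IsAffineHom f] [CompactSpace Y] [QuasiSeparatedSpace Y]
    (hY : PerfAux.HasResolutionProperty Y) : PerfAux.HasResolutionProperty X := by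
  intro M hM hMt
  have : M.IsQuasicoherent := hM
  have : CompactSpace X := QuasiCompact.compactSpace_of_compactSpace f
  obtain ⟨F, φ, hF, hFt, hφ⟩ := Groth.RelVA.exists_ft_epi f M hMt fun z => by
    obtain ⟨W, hW, hzW, -⟩ := exists_isAffineOpen_mem_and_subset (x := f z) (U := (⊤ : Y.Opens)) trivial
    exact ⟨⟨W, hW⟩, hzW, spanOn_affine M (hW.preimage f) z hzW⟩
  exact exists_bundle_epi f hY hF hFt φ hφ

/-- Untwisting a quotient of a finite locally free module. -/
theorem untwist {M L : X.Modules} (hL : PicF.IsInvertible L) {E : X.Modules}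
    (π : E ⟶ CohB1.tensorMod M L) (hE : FlatMod.IsFinLocFree E) [Epi π] :
    ∃ (E' : X.Modules) (π' : E' ⟶ M), FlatMod.IsFinLocFree E' ∧ Epi π' := by
  obtain ⟨L', hL', ⟨e⟩⟩ := exists_inverse hL
  obtain ⟨a, -⟩ := exists_associator L' L M
  obtain ⟨b, -⟩ := exists_braiding M L
  obtain ⟨l, -⟩ := exists_leftUnitor M
  let i : CohB1.tensorMod L' (CohB1.tensorMod M L) ≅ M :=
    PicGrp.tensorModIso (Iso.refl L') b ≪≫ a.symm ≪≫ PicGrp.tensorModIso e (Iso.refl M) ≪≫ l
  have := Groth.DegMono.epi_tensorMap L' π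
  have hL'f : FlatMod.IsFinLocFree L' :=
    Groth.LocFree.isFinLocFree_of_rank (Groth.LocFree.isInvertible_iff_ofRank_one.1 hL')
  exact ⟨_, KoszTw.tensorMap (𝟙 L') π ≫ i.hom, Groth.LocFree.isFinLocFree_tensorMod hL'f hE, epi_comp _ _⟩

/-- A scheme with an ample module has the resolution property. -/
theorem of_isAmple (L : X.Modules) (hL : CohB1.IsAmple L) : PerfAux.HasResolutionProperty X := by
  intro M hM hMt
  have : M.IsQuasicoherent := hM
  have := hL.2.1
  obtain ⟨n₀, hn₀⟩ := exists_spans_twist hL M hMt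
  have hK := isInvertible_tensorPow hL.1 n₀
  have := Groth.Ega2Proj.isFT_of_isInvertible hK
  have := isQCoh_of_isInvertible hK
  have : (CohB1.tensorMod M (CohB1.tensorPow L n₀)).IsQuasicoherent := Groth.QCohMod.isQCoh_tensorMod
  obtain ⟨k, p, hp⟩ := exists_epi_freeMod_of_spans _
    (Groth.QCohMod.isFT_tensorMod hMt (Groth.Ega2Proj.isFT_of_isInvertible hK)) (hn₀ n₀ le_rfl)
  exact untwist hK p (Groth.LocFree.isFinLocFree_freeMod X k)

/-- The resolution property passes up along morphisms with a relatively ample module. -/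
theorem of_isRelAmple (f : X ⟶ Y) [CompactSpace Y] [QuasiSeparatedSpace Y]
    (hY : PerfAux.HasResolutionProperty Y) (L : X.Modules) (hLi : PicF.IsInvertible L) [QuasiSeparated f]
    (hL : RelAmple.IsRelAmple f L) : PerfAux.HasResolutionProperty X := by
  classical
  intro M hM hMt
  have : M.IsQuasicoherent := hM
  have := hL.1
  have : CompactSpace X := QuasiCompact.compactSpace_of_compactSpace f
  choose W hW hzW _ using fun z : Y =>
    exists_isAffineOpen_mem_and_subset (x := z) (U := (⊤ : Y.Opens)) trivial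
  obtain ⟨s, hs⟩ := isCompact_univ.elim_finite_subcover (fun z => (W z : Set Y)) (fun z => (W z).isOpen)
    (fun z _ => Set.mem_iUnion.2 ⟨z, hzW z⟩)
  have hkey : ∀ z : Y, ∃ n₀ : ℕ, ∀ n, n₀ ≤ n →
      SpansStalks ((CohB1.tensorMod M (CohB1.tensorPow L n)).restrict (f ⁻¹ᵁ W z).ι) := by
    intro z
    have : (M.restrict (f ⁻¹ᵁ W z).ι).IsQuasicoherent :=
      Scheme.Modules.isQuasicoherent_restrictFunctor (f ⁻¹ᵁ W z).ι M
    obtain ⟨n₀, hn₀⟩ := exists_spans_twist (hL.2 ⟨W z, hW z⟩) (M.restrict (f ⁻¹ᵁ W z).ι)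
      (Groth.QCohMod.isFT_of_iso ((Scheme.Modules.restrictFunctorIsoPullback _).app M).symm
        (Groth.QCohMod.isFT_pullback (f ⁻¹ᵁ W z).ι M hMt))
    refine ⟨n₀, fun n hn => SpansStalks.of_iso ?_ (hn₀ n hn)⟩
    exact PicGrp.tensorModIso (Iso.refl _) (exists_tensorPow_restrict (L := L) _ n).some.symm ≪≫
      (exists_tensorMod_restrict (f ⁻¹ᵁ W z).ι).some.symm
  choose n₀ hn₀ using hkey
  let m := s.sup n₀
  have hK := isInvertible_tensorPow hLi m
  have := isQCoh_of_isInvertible hK
  have : (CohB1.tensorMod M (CohB1.tensorPow L m)).IsQuasicoherent := Groth.QCohMod.isQCoh_tensorMod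
  obtain ⟨F, φ, hF, hFt, hφ⟩ := Groth.RelVA.exists_ft_epi f _
    (Groth.QCohMod.isFT_tensorMod hMt (Groth.Ega2Proj.isFT_of_isInvertible hK)) fun y => by
      obtain ⟨z, hz, hyz⟩ := Set.mem_iUnion₂.1 (hs (Set.mem_univ (f y)))
      exact ⟨⟨W z, hW z⟩, hyz, spanOn_eq_top_of_restrict _ _ (hn₀ z m (Finset.le_sup hz)) y hyz⟩
  obtain ⟨E, π, hE, hπ⟩ := exists_bundle_epi f hY hF hFt φ hφ
  exact untwist hK π hE

end Groth.ResPropUp
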